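import Groth.Agent.L14.Popescu.OverComplete
import Groth.Agent.L05.Henselization.AtPrime
import Groth.Agent.S9470
import Groth.Agent.S0598

/-!
Rational points with isomorphic completions have isomorphic henselizations.
-/

set_option autoImplicit false
set_option linter.style.haveILetI false

noncomputable section

open IsLocalRing TensorProduct

namespace Groth.L14.Quad

universe u

/-- Two maps from an unramified algebra of finite type to a local ring which agree on residue fields are equal. -/
theorem algHom_ext_of_residue {R A T : Type u} [CommRing R] [CommRing A] [Algebra R A] [Algebra.EssFiniteType R A]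
    [Algebra.FormallyUnramified R A] [CommRing T] [IsLocalRing T] [Algebra R T] (f g : A →ₐ[R] T)
    (h : ∀ x, f x - g x ∈ maximalIdeal T) : f = g := by
  obtain ⟨t, ht, ht1⟩ := Algebra.FormallyUnramified.iff_exists_tensorProduct.mp ‹Algebra.FormallyUnramified R A›
  let F : A ⊗[R] A →ₐ[R] T := Algebra.TensorProduct.lift f g fun _ _ => Commute.all _ _
  let G : A ⊗[R] A →ₐ[R] T := Algebra.TensorProduct.lift f f fun _ _ => Commute.all _ _
  have hG : G t = 1 := by
    rw [show G = f.comp (Algebra.TensorProduct.lmul' R) from Algebra.TensorProduct.ext' fun a b => by simp [G],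
      AlgHom.comp_apply, ht1, map_one]
  have hFG : ∀ z, F z - G z ∈ maximalIdeal T := fun z => by
    induction z using TensorProduct.induction_on with
    | zero => simp
    | tmul a b =>
      rw [Algebra.TensorProduct.lift_tmul, Algebra.TensorProduct.lift_tmul, ← mul_sub]
      exact Ideal.mul_mem_left _ _ (neg_sub (f b) (g b) ▸ neg_mem (h b))
    | add u v hu hv => rw [map_add, map_add, add_sub_add_comm]; exact add_mem hu hv
  have hF : IsUnit (F t) := by
    by_contra hn
    have := Ideal.sub_mem _ (show F t ∈ maximalIdeal T from hn) (hFG t)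
    rw [sub_sub_cancel, hG] at this
    exact this isUnit_one
  refine AlgHom.ext fun s => ?_
  have h0 := congrArg F (ht s)
  rw [map_mul, map_zero, hF.mul_left_eq_zero, map_sub, Algebra.TensorProduct.lift_tmul,
    Algebra.TensorProduct.lift_tmul, map_one, map_one, one_mul, mul_one, sub_eq_zero] at h0
  exact h0.symm

set_option maxHeartbeats 1000000 in
/-- An etale neighbourhood with trivial residue extension has the same henselization. -/
theorem henselization_equiv_of_etale {D W : Type u} [CommRing D] [CommRing W] [Algebra D W] [Algebra.Etale D W]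
    (p : Ideal D) [p.IsPrime] (w : Ideal W) [w.IsMaximal] (hw : p = w.comap (algebraMap D W))
    (hres : ∀ z : W, ∃ d : D, z - algebraMap D W d ∈ w)
    (Dh : Type u) [CommRing Dh] [IsLocalRing Dh] [Algebra (Localization.AtPrime p) Dh]
    [IsLocalHom (algebraMap (Localization.AtPrime p) Dh)] [Hensel.IsHenselization (Localization.AtPrime p) Dh]
    (Wh : Type u) [CommRing Wh] [IsLocalRing Wh] [Algebra (Localization.AtPrime w) Wh]
    [IsLocalHom (algebraMap (Localization.AtPrime w) Wh)] [Hensel.IsHenselization (Localization.AtPrime w) Wh] :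
    ∃ e : Dh ≃+* Wh, ∀ d, e (algebraMap (Localization.AtPrime p) Dh (algebraMap D _ d)) =
      algebraMap (Localization.AtPrime w) Wh (algebraMap W _ (algebraMap D W d)) := by
  haveI := (inferInstance : Hensel.IsHenselization (Localization.AtPrime p) Dh).henselian
  haveI := (inferInstance : Hensel.IsHenselization (Localization.AtPrime w) Wh).henselian
  letI : Algebra D Dh := ((algebraMap (Localization.AtPrime p) Dh).comp (algebraMap D _)).toAlgebra
  haveI : IsScalarTower D (Localization.AtPrime p) Dh := IsScalarTower.of_algebraMap_eq' rfl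
  have hb : Function.Bijective (Ideal.ResidueField.map p w (algebraMap D W) hw) := by
    refine ⟨RingHom.injective _, fun k => ?_⟩
    obtain ⟨z, rfl⟩ := Ideal.algebraMap_residueField_surjective w k
    obtain ⟨d, hd⟩ := hres z
    refine ⟨algebraMap D _ d, ?_⟩
    rw [Ideal.ResidueField.map_algebraMap, eq_comm, ← sub_eq_zero, ← map_sub,
      Ideal.algebraMap_residueField_eq_zero]
    exact hd
  obtain ⟨f, hf, -⟩ := (Groth.Agent.S9470.result D p Dh).1 W w hw hb
  have hfu : ∀ z : w.primeCompl, IsUnit (f z) := fun z => by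
    by_contra h
    exact z.2 (hf ▸ (show (z : W) ∈ (maximalIdeal Dh).comap f.toRingHom from h))
  let f' : Localization.AtPrime w →+* Dh := IsLocalization.lift (M := w.primeCompl) hfu
  have hf' : ∀ z, f' (algebraMap W _ z) = f z := fun z => IsLocalization.lift_eq _ z
  haveI : IsLocalHom f' := ⟨fun z hz => by
    obtain ⟨a, t, rfl⟩ := IsLocalization.exists_mk'_eq w.primeCompl z
    rw [IsLocalization.AtPrime.isUnit_mk'_iff _ w]
    intro ha
    have h1 := congrArg f' (IsLocalization.mk'_spec (Localization.AtPrime w) a t)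
    rw [map_mul, hf', hf'] at h1
    have h2 : a ∈ (maximalIdeal Dh).comap f.toRingHom := hf.symm ▸ ha
    have h3 : f a ∈ maximalIdeal Dh := h2
    exact h3 (h1 ▸ hz.mul (hfu t))⟩
  obtain ⟨g, hg, -⟩ := (inferInstance : Hensel.IsHenselization (Localization.AtPrime w) Wh).universal Dh f' inferInstance
  let j : Localization.AtPrime p →+* Localization.AtPrime w := Localization.localRingHom p w (algebraMap D W) hw
  have hj : ∀ d, j (algebraMap D _ d) = algebraMap W _ (algebraMap D W d) :=
    fun d => Localization.localRingHom_to_map _ _ _ _ d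
  obtain ⟨h, hh, -⟩ := (inferInstance : Hensel.IsHenselization (Localization.AtPrime p) Dh).universal Wh
    ((algebraMap (Localization.AtPrime w) Wh).comp j) inferInstance
  have hgw : ∀ z, g (algebraMap (Localization.AtPrime w) Wh (algebraMap W _ z)) = f z := fun z =>
    (RingHom.congr_fun hg _).trans (hf' z)
  have hhd : ∀ d, h (algebraMap D Dh d) = algebraMap (Localization.AtPrime w) Wh (algebraMap W _ (algebraMap D W d)) :=
    fun d => (RingHom.congr_fun hh _).trans (congrArg _ (hj d))
  have h1 : g.comp h = RingHom.id Dh := by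
    refine ((inferInstance : Hensel.IsHenselization (Localization.AtPrime p) Dh).universal Dh
      (algebraMap _ Dh) inferInstance).unique ?_ (RingHom.id_comp _)
    refine IsLocalization.ringHom_ext p.primeCompl (RingHom.ext fun d => ?_)
    show g (h (algebraMap D Dh d)) = algebraMap D Dh d
    rw [hhd, hgw, f.commutes]
  letI : Algebra D Wh := (h.comp (algebraMap D Dh)).toAlgebra
  let c : W →ₐ[D] Wh :=
    { (algebraMap (Localization.AtPrime w) Wh).comp (algebraMap W _) with commutes' := fun d => (hhd d).symm }
  let c' : W →ₐ[D] Wh :=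
    { h.comp f.toRingHom with commutes' := fun d => by show h (f (algebraMap D W d)) = _; rw [f.commutes]; rfl }
  have hc : c' = c := by
    refine algHom_ext_of_residue c' c fun z => ?_
    obtain ⟨d, hd⟩ := hres z
    have e1 : c' z - c z = c' (z - algebraMap D W d) - c (z - algebraMap D W d) := by
      rw [map_sub, map_sub, c'.commutes, c.commutes, sub_sub_sub_cancel_right]
    rw [e1]
    refine sub_mem (fun hu => ?_) (fun hu => ?_)
    · have hu1 := hu.map g
      rw [show g (c' (z - algebraMap D W d)) = g.comp h (f (z - algebraMap D W d)) from rfl, h1] at hu1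
      have : z - algebraMap D W d ∈ (maximalIdeal Dh).comap f.toRingHom := hf.symm ▸ hd
      exact this hu1
    · have hu1 : IsUnit (algebraMap W (Localization.AtPrime w) (z - algebraMap D W d)) :=
        (isUnit_map_iff (algebraMap (Localization.AtPrime w) Wh) _).mp hu
      exact (IsLocalization.AtPrime.to_map_mem_maximal_iff _ w _).mpr hd hu1
  have h2 : h.comp g = RingHom.id Wh := by
    refine ((inferInstance : Hensel.IsHenselization (Localization.AtPrime w) Wh).universal Wh
      (algebraMap _ Wh) inferInstance).unique ?_ (RingHom.id_comp _)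
    refine IsLocalization.ringHom_ext w.primeCompl (RingHom.ext fun z => ?_)
    show h (g (algebraMap (Localization.AtPrime w) Wh (algebraMap W _ z))) = _
    rw [hgw]
    exact AlgHom.congr_fun hc z
  exact ⟨RingEquiv.ofRingHom h g h2 h1, hhd⟩

set_option maxHeartbeats 1000000 in
/-- Henselizations at rational points with isomorphic completions are isomorphic. -/
theorem henselization_equiv_of_completion {k D E : Type u} [Field k] [CommRing D] [Algebra k D]
    [Algebra.FiniteType k D] [CommRing E] [Algebra k E] [Algebra.FiniteType k E]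
    (q : Ideal D) [q.IsMaximal] (p : Ideal E) [p.IsMaximal]
    (hq : ∀ d : D, ∃ c : k, d - algebraMap k D c ∈ q)
    (θ₂ : Localization.AtPrime p →+* AdicCompletion (maximalIdeal (Localization.AtPrime q)) (Localization.AtPrime q))
    (hθk : ∀ c : k, θ₂ (algebraMap E _ (algebraMap k E c)) =
      algebraMap k (AdicCompletion (maximalIdeal (Localization.AtPrime q)) (Localization.AtPrime q)) c)
    (hden : ∀ (n : ℕ) (c : Localization.AtPrime q), ∃ a : Localization.AtPrime p,
      AdicCompletion.evalₐ (maximalIdeal (Localization.AtPrime q)) n (θ₂ a) = Ideal.Quotient.mk _ c)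
    (hker : ∀ (n : ℕ) (a : Localization.AtPrime p),
      AdicCompletion.evalₐ (maximalIdeal (Localization.AtPrime q)) n (θ₂ a) = 0 ↔
        a ∈ maximalIdeal (Localization.AtPrime p) ^ n)
    (Dh : Type u) [CommRing Dh] [IsLocalRing Dh] [Algebra (Localization.AtPrime q) Dh]
    [IsLocalHom (algebraMap (Localization.AtPrime q) Dh)] [Hensel.IsHenselization (Localization.AtPrime q) Dh]
    (Eh : Type u) [CommRing Eh] [IsLocalRing Eh] [Algebra (Localization.AtPrime p) Eh]
    [IsLocalHom (algebraMap (Localization.AtPrime p) Eh)] [Hensel.IsHenselization (Localization.AtPrime p) Eh] :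
    ∃ e : Eh ≃+* Dh, ∀ c : k, e (algebraMap (Localization.AtPrime p) Eh (algebraMap E _ (algebraMap k E c))) =
      algebraMap (Localization.AtPrime q) Dh (algebraMap D _ (algebraMap k D c)) := by
  haveI : IsAdicComplete (maximalIdeal k) k := by
    rw [IsLocalRing.maximalIdeal_eq_bot]
    infer_instance
  obtain ⟨W, iW, iAW, α, β, χ, hα, hβ, hχα, hχβ⟩ :=
    Popescu.exists_common_etale (Groth.Agent.S0598.result k) q p (θ₂.comp (algebraMap E _)) hθk θ₂ (fun _ => rfl)
      hden hker
  let A₁ := Localization.AtPrime q
  haveI : (maximalIdeal A₁ ^ 1).IsMaximal := by rw [pow_one]; exact maximalIdeal.isMaximal A₁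
  let w : Ideal W := RingHom.ker χ
  have hsurj : Function.Surjective χ := fun z => by
    obtain ⟨a, rfl⟩ := Ideal.Quotient.mk_surjective z
    obtain ⟨c, hc⟩ : ∃ c : D, a - algebraMap D A₁ c ∈ maximalIdeal A₁ := by
      obtain ⟨d, hd⟩ := IsLocalization.AtPrime.equivQuotMaximalIdeal q A₁ |>.surjective (Ideal.Quotient.mk _ a)
      obtain ⟨d, rfl⟩ := Ideal.Quotient.mk_surjective d
      exact ⟨d, Ideal.Quotient.eq.mp hd.symm⟩
    exact ⟨α c, by rw [hχα, Ideal.Quotient.eq, pow_one]; exact neg_sub a _ ▸ neg_mem hc⟩
  haveI : w.IsMaximal := by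
    letI := Ideal.Quotient.field (maximalIdeal A₁ ^ 1)
    exact RingHom.ker_isMaximal_of_surjective χ hsurj
  have hwD : q = w.comap α.toRingHom := by
    ext d
    show d ∈ q ↔ χ (α d) = 0
    rw [hχα, Ideal.Quotient.eq_zero_iff_mem, pow_one, IsLocalization.AtPrime.to_map_mem_maximal_iff A₁ q]
  have hresD : ∀ z : W, ∃ d : D, z - α d ∈ w := fun z => by
    obtain ⟨a, ha⟩ := Ideal.Quotient.mk_surjective (χ z)
    obtain ⟨d, hd⟩ := IsLocalization.AtPrime.equivQuotMaximalIdeal q A₁ |>.surjective (Ideal.Quotient.mk _ a)
    obtain ⟨d, rfl⟩ := Ideal.Quotient.mk_surjective d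
    refine ⟨d, ?_⟩
    show χ (z - α d) = 0
    rw [map_sub, hχα, ← ha, ← map_sub, Ideal.Quotient.eq_zero_iff_mem, pow_one]
    exact Ideal.Quotient.eq.mp hd.symm
  have hk : ∀ c : k, χ (β (algebraMap k E c)) = χ (α (algebraMap k D c)) := fun c => by rw [β.commutes, α.commutes]
  have hresE : ∀ z : W, ∃ e : E, z - β e ∈ w := fun z => by
    obtain ⟨d, hd⟩ := hresD z
    obtain ⟨c, hc⟩ := hq d
    refine ⟨algebraMap k E c, ?_⟩
    have h1 : α (d - algebraMap k D c) ∈ w := hwD.le hc
    have := Ideal.add_mem _ hd h1
    rwa [map_sub, sub_add_sub_cancel, α.commutes, ← β.commutes] at this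
  have hwE : p = w.comap β.toRingHom := by
    refine (Ideal.IsMaximal.eq_of_le ‹p.IsMaximal› (Ideal.comap_ne_top _ (Ideal.IsMaximal.ne_top inferInstance)) ?_)
    intro e he
    show χ (β e) = 0
    rw [hχβ]
    refine (hker 1 _).mpr ?_
    rw [pow_one]
    exact (IsLocalization.AtPrime.to_map_mem_maximal_iff _ p e).mpr he
  obtain ⟨Wh, i1, i2, i3, i4, i5⟩ := Groth.L05.Henselization.exists_isHenselization (Localization.AtPrime w)
  obtain ⟨eD, heD⟩ : ∃ e : Dh ≃+* Wh, ∀ d, e (algebraMap (Localization.AtPrime q) Dh (algebraMap D _ d)) =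
      algebraMap (Localization.AtPrime w) Wh (algebraMap W _ (α d)) := by
    letI : Algebra D W := α.toRingHom.toAlgebra
    haveI : Algebra.Etale D W := RingHom.etale_algebraMap.mp hα
    exact henselization_equiv_of_etale q w hwD hresD Dh Wh
  obtain ⟨eE, heE⟩ : ∃ e : Eh ≃+* Wh, ∀ d, e (algebraMap (Localization.AtPrime p) Eh (algebraMap E _ d)) =
      algebraMap (Localization.AtPrime w) Wh (algebraMap W _ (β d)) := by
    letI : Algebra E W := β.toRingHom.toAlgebra
    haveI : Algebra.Etale E W := RingHom.etale_algebraMap.mp hβ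
    exact henselization_equiv_of_etale p w hwE hresE Eh Wh
  refine ⟨eE.trans eD.symm, fun c => ?_⟩
  show eD.symm (eE _) = _
  rw [RingEquiv.symm_apply_eq, heE, heD, α.commutes, β.commutes]

end Groth.L14.Quad
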