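import Groth.Agent.L14.Quad.MorseOrd
import Groth.Agent.L14.Quad.HensIso
import Groth.Agent.L14.Popescu.AffineNbhd

/-!
Henselizations at ordinary quadratic singularities.
-/

set_option autoImplicit false
set_option linter.style.haveILetI false

noncomputable section

open IsLocalRing

namespace Groth.L14.Quad

universe u

/-- Isomorphisms of local rings preserve the powers of the maximal ideal. -/
theorem mem_maximalIdeal_pow_equiv {R S : Type u} [CommRing R] [CommRing S] [IsLocalRing R] [IsLocalRing S]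
    (e : R ≃+* S) (m : ℕ) (z : R) : e z ∈ maximalIdeal S ^ m ↔ z ∈ maximalIdeal R ^ m := by
  rw [← IsLocalRing.eq_maximalIdeal (Ideal.map_isMaximal_of_equiv e (p := maximalIdeal R)), ← Ideal.map_pow,
    Ideal.mem_map_of_equiv]
  exact ⟨fun ⟨w, hw, hwz⟩ => e.injective hwz ▸ hw, fun h => ⟨z, h, rfl⟩⟩

/-- The henselization is insensitive to isomorphisms of the base. -/
theorem isHenselization_of_ringEquiv {O A₁ Oh : Type u} [CommRing O] [IsLocalRing O] [CommRing A₁] [IsLocalRing A₁]
    [CommRing Oh] [IsLocalRing Oh] [Algebra O Oh] [IsLocalHom (algebraMap O Oh)] [Hensel.IsHenselization O Oh]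
    [Algebra A₁ Oh] [IsLocalHom (algebraMap A₁ Oh)] (e : O ≃+* A₁)
    (he : ∀ z, algebraMap A₁ Oh (e z) = algebraMap O Oh z) : Hensel.IsHenselization A₁ Oh where
  henselian := (inferInstance : Hensel.IsHenselization O Oh).henselian
  universal T _ _ f hf := by
    haveI := hf
    haveI : IsLocalHom (f.comp (e : O →+* A₁)) :=
      ⟨fun z hz => (isUnit_map_iff e z).mp ((isUnit_map_iff f _).mp hz)⟩
    obtain ⟨g, hg, hu⟩ := (inferInstance : Hensel.IsHenselization O Oh).universal T (f.comp (e : O →+* A₁)) inferInstance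
    refine ⟨g, RingHom.ext fun z => ?_, fun g' hg' => hu g' (RingHom.ext fun z => ?_)⟩
    · obtain ⟨z, rfl⟩ := e.surjective z
      show g (algebraMap A₁ Oh (e z)) = _
      rw [he]
      exact RingHom.congr_fun hg z
    · show g' (algebraMap O Oh z) = f (e z)
      rw [← he]
      exact RingHom.congr_fun hg' (e z)

/-- A hypersurface at the origin has the truncations of the power series hypersurface. -/
theorem exists_model_truncations {k : Type u} [Field k] {N : ℕ} (f : MvPolynomial (Fin N) k)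
    (o : Ideal (MvPolynomial (Fin N) k ⧸ Ideal.span {f})) [o.IsPrime]
    (ho : o = (MvPolynomial.idealOfVars (Fin N) k).map (Ideal.Quotient.mk _))
    (hf : MvPolynomial.constantCoeff f = 0) :
    IsLocalRing (MvPowerSeries (Fin N) k ⧸ Ideal.span {(f : MvPowerSeries (Fin N) k)}) ∧ o.IsMaximal ∧
    ∃ θ : Localization.AtPrime o →+* (MvPowerSeries (Fin N) k ⧸ Ideal.span {(f : MvPowerSeries (Fin N) k)}),
      (∀ c : k, θ (algebraMap (MvPolynomial (Fin N) k ⧸ Ideal.span {f}) (Localization.AtPrime o)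
        (algebraMap k (MvPolynomial (Fin N) k ⧸ Ideal.span {f}) c)) =
        algebraMap k (MvPowerSeries (Fin N) k ⧸ Ideal.span {(f : MvPowerSeries (Fin N) k)}) c) ∧
      (∀ (n : ℕ) (t : MvPowerSeries (Fin N) k ⧸ Ideal.span {(f : MvPowerSeries (Fin N) k)}),
        ∃ a : Localization.AtPrime o, t - θ a ∈ ((Groth.L28.PSer.M (Fin N) k).map (Ideal.Quotient.mk _)) ^ n) ∧
      ∀ (n : ℕ) (a : Localization.AtPrime o),
        θ a ∈ ((Groth.L28.PSer.M (Fin N) k).map (Ideal.Quotient.mk _)) ^ n ↔ a ∈ maximalIdeal (Localization.AtPrime o) ^ n := by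
  classical
  let S := MvPowerSeries (Fin N) k
  let I := MvPolynomial.idealOfVars (Fin N) k
  let M := Groth.L28.PSer.M (Fin N) k
  let fS : S := (f : MvPowerSeries (Fin N) k)
  let T := S ⧸ Ideal.span {fS}
  let R := MvPolynomial (Fin N) k ⧸ Ideal.span {f}
  have hcoe : ∀ (n : ℕ) (P : MvPolynomial (Fin N) k), (P : MvPowerSeries (Fin N) k) ∈ M ^ n ↔ P ∈ I ^ n := fun n P => by
    rw [MvPolynomial.mem_pow_idealOfVars_iff']
    refine ⟨fun h x hx => ?_, fun h => Groth.L28.PSer.mem_pow_of_order n _ (MvPowerSeries.nat_le_order fun x hx => ?_)⟩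
    · rw [← MvPolynomial.coeff_coe]
      exact MvPowerSeries.coeff_of_lt_order (lt_of_lt_of_le (Nat.cast_lt.mpr hx) (Groth.L28.PSer.order_mem_pow _ n h))
    · rw [MvPolynomial.coeff_coe]
      exact h x hx
  have htr : ∀ (n : ℕ) (F : S), ∃ P : MvPolynomial (Fin N) k, F - (P : MvPowerSeries (Fin N) k) ∈ M ^ n := fun n F =>
    ⟨MvPowerSeries.truncTotal n F, Groth.L28.PSer.mem_pow_of_order n _ (MvPowerSeries.nat_le_order fun x hx => by
      rw [map_sub, MvPolynomial.coeff_coe, MvPowerSeries.coeff_truncTotal _ hx, sub_self])⟩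
  have hI1 : ∀ P, P ∈ I ↔ MvPolynomial.constantCoeff P = 0 := fun P => by
    rw [← pow_one I, MvPolynomial.mem_pow_idealOfVars_iff', MvPolynomial.constantCoeff_eq]
    refine ⟨fun h => h 0 (by simp), fun h x hx => ?_⟩
    rw [(Finsupp.degree_eq_zero_iff x).mp (by omega)]
    exact h
  have hfI : Ideal.span {f} ≤ I := (Ideal.span_singleton_le_iff_mem I).mpr ((hI1 f).mpr hf)
  have hoI : ∀ P : MvPolynomial (Fin N) k, Ideal.Quotient.mk _ P ∈ o ↔ MvPolynomial.constantCoeff P = 0 := fun P => by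
    rw [← hI1, ho]
    refine ⟨fun h => ?_, Ideal.mem_map_of_mem _⟩
    obtain ⟨y, hy, hyP⟩ := (Ideal.mem_map_iff_of_surjective _ Ideal.Quotient.mk_surjective).mp h
    have := I.sub_mem hy (hfI (Ideal.Quotient.eq.mp hyP))
    rwa [sub_sub_cancel] at this
  have homax : o.IsMaximal := by
    have h1 : o = RingHom.ker (Ideal.Quotient.lift (Ideal.span {f}) (MvPolynomial.constantCoeff (R := k) (σ := Fin N))
        (fun P hP => (hI1 P).mp (hfI hP))) := by
      ext r
      obtain ⟨P, rfl⟩ := Ideal.Quotient.mk_surjective r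
      exact hoI P
    rw [h1]
    exact RingHom.ker_isMaximal_of_surjective _ fun c =>
      ⟨Ideal.Quotient.mk _ (MvPolynomial.C c), MvPolynomial.constantCoeff_C _ c⟩
  have hfS : fS ∈ M := by
    rw [← pow_one M]
    exact (hcoe 1 f).mpr (by rw [pow_one]; exact (hI1 f).mpr hf)
  haveI : Nontrivial T := Ideal.Quotient.nontrivial_iff.mpr
    (ne_top_of_le_ne_top (maximalIdeal.isMaximal S).ne_top
      ((Ideal.span_singleton_le_iff_mem _).mpr (Groth.L28.PSer.maximalIdeal_eq (σ := Fin N) (k := k) ▸ hfS)))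
  haveI hloc : IsLocalRing T := IsLocalRing.of_surjective' (Ideal.Quotient.mk _) Ideal.Quotient.mk_surjective
  let g : R →+* T := Ideal.Quotient.lift _ ((Ideal.Quotient.mk _).comp MvPolynomial.coeToMvPowerSeries.ringHom)
    (fun P hP => by
      obtain ⟨h, rfl⟩ := Ideal.mem_span_singleton.mp hP
      refine Ideal.Quotient.eq_zero_iff_mem.mpr (Ideal.mem_span_singleton.mpr ?_)
      exact ⟨(h : MvPowerSeries (Fin N) k), map_mul MvPolynomial.coeToMvPowerSeries.ringHom f h⟩)
  have hgu : ∀ r : o.primeCompl, IsUnit (g r) := fun r => by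
    obtain ⟨P, hP⟩ := Ideal.Quotient.mk_surjective (r : R)
    rw [← hP]
    refine IsUnit.map (Ideal.Quotient.mk (Ideal.span {fS})) ?_
    rw [MvPowerSeries.isUnit_iff_constantCoeff, isUnit_iff_ne_zero]
    intro h
    refine r.2 (hP ▸ (hoI P).mpr ?_)
    rwa [← MvPowerSeries.coeff_zero_eq_constantCoeff_apply, MvPolynomial.coeToMvPowerSeries.ringHom_apply,
      MvPolynomial.coeff_coe] at h
  let θ : Localization.AtPrime o →+* T := IsLocalization.lift (M := o.primeCompl) hgu
  have hθ : ∀ r, θ (algebraMap R _ r) = g r := fun r => IsLocalization.lift_eq _ r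
  let MT := M.map (Ideal.Quotient.mk (Ideal.span {fS}))
  have hpow : ∀ n, MT ^ n = (M ^ n).map (Ideal.Quotient.mk (Ideal.span {fS})) := fun n => (Ideal.map_pow _ _ n).symm
  have hle : ∀ n, (maximalIdeal (Localization.AtPrime o) ^ n).map θ ≤ MT ^ n := fun n => by
    rw [Ideal.map_pow]
    refine Ideal.pow_right_mono ?_ n
    rw [← Localization.AtPrime.map_eq_maximalIdeal, Ideal.map_map, Ideal.map_le_iff_le_comap]
    intro r hr
    obtain ⟨P, rfl⟩ := Ideal.Quotient.mk_surjective r
    show θ (algebraMap R _ (Ideal.Quotient.mk _ P)) ∈ MT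
    rw [hθ]
    refine Ideal.mem_map_of_mem (Ideal.Quotient.mk (Ideal.span {fS})) ?_
    show MvPolynomial.coeToMvPowerSeries.ringHom P ∈ M
    rw [← pow_one M]
    exact (hcoe 1 P).mpr (by rw [pow_one]; exact (hI1 P).mpr ((hoI P).mp hr))
  refine ⟨hloc, homax, θ, fun c => ?_, fun n t => ?_, fun n a => ⟨fun h => ?_, fun h => hle n (Ideal.mem_map_of_mem θ h)⟩⟩
  · rw [hθ]
    show Ideal.Quotient.mk (Ideal.span {fS}) (MvPolynomial.coeToMvPowerSeries.ringHom (MvPolynomial.C c)) = _
    rw [MvPolynomial.coeToMvPowerSeries.ringHom_apply, MvPolynomial.coe_C]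
    rfl
  · obtain ⟨F, rfl⟩ := Ideal.Quotient.mk_surjective t
    obtain ⟨P, hP⟩ := htr n F
    refine ⟨algebraMap R _ (Ideal.Quotient.mk _ P), ?_⟩
    rw [hθ]
    show Ideal.Quotient.mk (Ideal.span {fS}) F - Ideal.Quotient.mk (Ideal.span {fS}) (MvPolynomial.coeToMvPowerSeries.ringHom P) ∈ MT ^ n
    rw [← map_sub, hpow]
    exact Ideal.mem_map_of_mem _ hP
  · obtain ⟨r, t, rfl⟩ := IsLocalization.exists_mk'_eq o.primeCompl a
    obtain ⟨P, rfl⟩ := Ideal.Quotient.mk_surjective r
    have h1 : Ideal.Quotient.mk (Ideal.span {fS}) (P : MvPowerSeries (Fin N) k) ∈ MT ^ n := by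
      have h2 := Ideal.mul_mem_right (θ (algebraMap R _ t)) _ h
      rw [← map_mul, IsLocalization.mk'_spec, hθ] at h2
      exact h2
    rw [hpow] at h1
    obtain ⟨G, hG, hGP⟩ := (Ideal.mem_map_iff_of_surjective _ Ideal.Quotient.mk_surjective).mp h1
    obtain ⟨u, hu⟩ := Ideal.mem_span_singleton.mp (Ideal.Quotient.eq.mp hGP)
    obtain ⟨U, hU⟩ := htr n u
    have hP' : P + f * U ∈ I ^ n := by
      rw [← hcoe, MvPolynomial.coe_add, MvPolynomial.coe_mul]
      have h3 : (P : MvPowerSeries (Fin N) k) + fS * (U : MvPowerSeries (Fin N) k) =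
          G - fS * (u - (U : MvPowerSeries (Fin N) k)) := by linear_combination (-1 : S) * hu
      show (P : MvPowerSeries (Fin N) k) + fS * (U : MvPowerSeries (Fin N) k) ∈ M ^ n
      rw [h3]
      exact sub_mem hG (Ideal.mul_mem_left _ _ hU)
    have hr : (Ideal.Quotient.mk (Ideal.span {f}) P : R) ∈ o ^ n := by
      rw [ho, ← Ideal.map_pow, show (Ideal.Quotient.mk (Ideal.span {f}) P) =
        Ideal.Quotient.mk (Ideal.span {f}) (P + f * U) from (Ideal.Quotient.eq.mpr (Ideal.mem_span_singleton.mpr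
          ⟨-U, by ring⟩))]
      exact Ideal.mem_map_of_mem _ hP'
    rw [IsLocalization.mk'_eq_mul_mk'_one, ← Localization.AtPrime.map_eq_maximalIdeal,
      ← Ideal.map_pow]
    exact Ideal.mul_mem_right _ _ (Ideal.mem_map_of_mem _ hr)

set_option maxHeartbeats 1000000 in
/-- The henselization at an ordinary quadratic singularity is that of the cone. -/
theorem exists_cone_equiv (k : Type u) [Field k] [IsAlgClosed k]
    (O : Type u) [CommRing O] [IsLocalRing O] [Algebra k O] [Algebra.EssFiniteType k O]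
    (hk : ∀ y : O, ∃ c : k, y - algebraMap k O c ∈ maximalIdeal O)
    (n : ℕ) (hq : VanCyc.IsOrdQuadSing k O n)
    (Oh : Type u) [CommRing Oh] [IsLocalRing Oh] [Algebra O Oh] [IsLocalHom (algebraMap O Oh)]
    [Hensel.IsHenselization O Oh] [Algebra k Oh] [IsScalarTower k O Oh] :
    ∃ a : Fin (n + 1) → Fin (n + 1) → k, VanCyc.QuadOrd a ∧
      ∀ [(VanCyc.originQuot k a 0).IsPrime] (C : Type u) [CommRing C] [IsLocalRing C]
        [Algebra (Localization.AtPrime (VanCyc.originQuot k a 0)) C]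
        [IsLocalHom (algebraMap (Localization.AtPrime (VanCyc.originQuot k a 0)) C)]
        [Hensel.IsHenselization (Localization.AtPrime (VanCyc.originQuot k a 0)) C]
        [Algebra k C] [IsScalarTower k (Localization.AtPrime (VanCyc.originQuot k a 0)) C],
        Nonempty (Oh ≃ₐ[k] C) := by
  obtain ⟨F, hF, ⟨ef⟩⟩ := hq
  obtain ⟨em⟩ := exists_equiv_quadPart F hF
  refine ⟨VanCyc.quadPart F, hF.2, ?_⟩
  intro hp C _ _ _ _ _ _ _
  let a := VanCyc.quadPart F
  let P₀ : MvPolynomial (Fin (n + 1)) k := VanCyc.quadPoly a - MvPolynomial.C 0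
  let o := VanCyc.originQuot k a 0
  obtain ⟨hTloc, homax, θ, hθk, hθden, hθker⟩ := exists_model_truncations P₀ o (by
    show (VanCyc.originIdeal k).map _ = _
    rw [VanCyc.originIdeal, IsLocalRing.maximalIdeal_eq_bot, Ideal.map_bot, bot_sup_eq]) (by
      show MvPolynomial.constantCoeff (VanCyc.quadPoly a - MvPolynomial.C 0) = 0
      rw [map_zero, sub_zero, MvPolynomial.constantCoeff_eq]
      exact (Groth.L28.Morse.quadPoly_isHomogeneous a).coeff_eq_zero (by simp))
  haveI := hTloc
  haveI : o.IsMaximal := homax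
  let B := Algebra.EssFiniteType.subalgebra k O
  let q : Ideal B := (maximalIdeal O).comap (algebraMap B O)
  haveI : IsLocalization.AtPrime O q := by
    have h := Algebra.EssFiniteType.isLocalization (R := k) (S := O)
    have hM : Algebra.EssFiniteType.submonoid k O = q.primeCompl := by
      ext z
      show IsUnit (algebraMap B O z) ↔ ¬ (algebraMap B O z ∈ maximalIdeal O)
      simp
    rw [hM] at h
    exact h
  have hqk : ∀ d : B, ∃ c : k, d - algebraMap k B c ∈ q := fun d => by
    obtain ⟨c, hc⟩ := hk (algebraMap B O d)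
    refine ⟨c, ?_⟩
    show algebraMap B O (d - algebraMap k B c) ∈ maximalIdeal O
    rwa [map_sub, ← IsScalarTower.algebraMap_apply k B O]
  haveI : q.IsMaximal := by
    have h1 : q = RingHom.ker ((residue O).comp (algebraMap B O)) := by
      ext d
      exact (residue_eq_zero_iff _).symm
    rw [h1]
    refine RingHom.ker_isMaximal_of_surjective _ fun z => ?_
    obtain ⟨y, rfl⟩ := residue_surjective z
    obtain ⟨c, hc⟩ := hk y
    refine ⟨algebraMap k B c, ?_⟩
    show residue O (algebraMap B O (algebraMap k B c)) = residue O y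
    rw [← IsScalarTower.algebraMap_apply k B O, eq_comm, ← sub_eq_zero, ← map_sub, residue_eq_zero_iff]
    exact hc
  haveI : IsNoetherianRing B := Algebra.FiniteType.isNoetherianRing k B
  haveI : IsNoetherianRing O := IsLocalization.isNoetherianRing q.primeCompl O inferInstance
  let A₁ := Localization.AtPrime q
  let ε : O ≃ₐ[B] A₁ := IsLocalization.algEquiv q.primeCompl O A₁
  haveI : IsNoetherianRing A₁ := IsLocalization.isNoetherianRing q.primeCompl A₁ inferInstance
  obtain ⟨cq, hcq⟩ := Popescu.exists_completion_equiv (R := O) (S := A₁) ε.toRingEquiv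
  have hX : Ideal.span {(P₀ : MvPowerSeries (Fin (n + 1)) k)} = Ideal.span {Groth.L28.Morse.Q a MvPowerSeries.X} := by
    show Ideal.span {((VanCyc.quadPoly a - MvPolynomial.C 0 : MvPolynomial (Fin (n + 1)) k) : MvPowerSeries (Fin (n + 1)) k)} = _
    rw [map_zero, sub_zero, Groth.L28.Morse.coe_quadPoly]
  let eP := (Ideal.quotientEquivAlgOfEq k hX).trans (em.symm.trans ef.symm)
  let Φ : (MvPowerSeries (Fin (n + 1)) k ⧸ Ideal.span {(P₀ : MvPowerSeries (Fin (n + 1)) k)}) ≃+*
      AdicCompletion (maximalIdeal A₁) A₁ := eP.toRingEquiv.trans cq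
  have hMT : (Groth.L28.PSer.M (Fin (n + 1)) k).map (Ideal.Quotient.mk (Ideal.span {(P₀ : MvPowerSeries (Fin (n + 1)) k)})) =
      maximalIdeal (MvPowerSeries (Fin (n + 1)) k ⧸ Ideal.span {(P₀ : MvPowerSeries (Fin (n + 1)) k)}) := by
    rw [← Groth.L28.PSer.maximalIdeal_eq]
    exact (IsLocalRing.map_maximalIdeal_of_surjective _ Ideal.Quotient.mk_surjective)
  have hfA : (maximalIdeal A₁).FG := IsNoetherian.noetherian _
  have hev : ∀ (m : ℕ) (z : MvPowerSeries (Fin (n + 1)) k ⧸ Ideal.span {(P₀ : MvPowerSeries (Fin (n + 1)) k)}),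
      AdicCompletion.evalₐ (maximalIdeal A₁) m (Φ z) = 0 ↔
        z ∈ ((Groth.L28.PSer.M (Fin (n + 1)) k).map (Ideal.Quotient.mk _)) ^ m := fun m z => by
    rw [Popescu.evalₐ_eq_zero_iff hfA, Ideal.map_pow, ← AdicCompletion.maximalIdeal_eq_map, mem_maximalIdeal_pow_equiv,
      hMT]
  letI : Algebra A₁ Oh := ((algebraMap O Oh).comp ε.symm.toRingEquiv.toRingHom).toAlgebra
  haveI : IsLocalHom (algebraMap A₁ Oh) :=
    ⟨fun z hz => (isUnit_map_iff ε.symm z).mp ((isUnit_map_iff (algebraMap O Oh) _).mp hz)⟩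
  haveI : Hensel.IsHenselization A₁ Oh := isHenselization_of_ringEquiv (O := O) ε.toRingEquiv fun z =>
    congrArg (algebraMap O Oh) (ε.symm_apply_apply z)
  haveI : Algebra.FiniteType k (VanCyc.quadRing k a 0) := inferInstance
  have hcom : ∀ c : k, Φ (algebraMap k _ c) =
      algebraMap k (AdicCompletion (maximalIdeal A₁) A₁) c := fun c => by
    show cq (eP (algebraMap k _ c)) = _
    rw [eP.commutes, IsScalarTower.algebraMap_apply k O (AdicCompletion (maximalIdeal O) O), hcq,
      IsScalarTower.algebraMap_apply k A₁ (AdicCompletion (maximalIdeal A₁) A₁)]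
    refine congrArg _ ?_
    show ε (algebraMap k O c) = _
    rw [IsScalarTower.algebraMap_apply k B O, ε.commutes, ← IsScalarTower.algebraMap_apply k B A₁]
  obtain ⟨e, he⟩ := henselization_equiv_of_completion (D := B) (E := VanCyc.quadRing k a 0) q o hqk
    ((Φ : _ →+* _).comp θ) (fun c => by
      show Φ (θ _) = _
      rw [hθk, hcom])
    (fun m c => by
      obtain ⟨t, ht⟩ := Φ.surjective (algebraMap A₁ _ c)
      obtain ⟨z, hz⟩ := hθden m t
      refine ⟨z, ?_⟩
      have h := (hev m _).mpr hz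
      rw [map_sub, map_sub, sub_eq_zero, ht, AlgHom.commutes] at h
      exact h.symm)
    (fun m z => (hev m _).trans (hθker m z)) Oh C
  refine ⟨AlgEquiv.ofRingEquiv (f := e.symm) fun c => ?_⟩
  rw [RingEquiv.symm_apply_eq]
  refine Eq.symm ?_
  rw [IsScalarTower.algebraMap_apply k (Localization.AtPrime o) C,
    IsScalarTower.algebraMap_apply k (VanCyc.quadRing k a 0) (Localization.AtPrime o), he]
  show algebraMap O Oh (ε.symm (algebraMap B A₁ (algebraMap k B c))) = _
  rw [ε.symm.commutes, ← IsScalarTower.algebraMap_apply, ← IsScalarTower.algebraMap_apply]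

end Groth.L14.Quad
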