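import Groth.Agent.L28.Morse
import Mathlib.FieldTheory.IsAlgClosed.Basic
import Mathlib.LinearAlgebra.Matrix.Symmetric
import Mathlib.LinearAlgebra.Matrix.ToLinearEquiv

/-!
The formal Morse lemma for ordinary, possibly degenerate, quadratic forms.
-/

set_option autoImplicit false

open MvPowerSeries Finset Groth.L28.PSer Groth.L28.Morse

namespace Groth.L14.Quad

universe u

variable {A : Type u} [CommRing A] {n : ℕ}

/-- The polar forms as power series. -/
noncomputable def Lf (a : Fin n → Fin n → A) (l : Fin n) : MvPowerSeries (Fin n) A :=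
  ∑ j, C (VanCyc.polarMatrix a l j) * X j

/-- The higher order part of `(1 + c) * Q (X + g)`. -/
noncomputable def Rem (a : Fin n → Fin n → A)
    (p : (Fin n → MvPowerSeries (Fin n) A) × MvPowerSeries (Fin n) A) : MvPowerSeries (Fin n) A :=
  Q a p.1 + p.2 * (∑ l, p.1 l * Lf a l + Q a p.1)

/-- The map whose fixed point straightens `Q + E`. -/
noncomputable def Tord (a : Fin n → Fin n → A) (E : MvPowerSeries (Fin n) A)
    (α : Fin n → Fin n → Fin n → MvPowerSeries (Fin n) A) (β : Fin n → Fin n → MvPowerSeries (Fin n) A)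
    (p : (Fin n → MvPowerSeries (Fin n) A) × MvPowerSeries (Fin n) A) :
    (Fin n → MvPowerSeries (Fin n) A) × MvPowerSeries (Fin n) A :=
  (fun l => ∑ i, ∑ j, α i j l * D j (D i (E - Rem a p)), ∑ i, ∑ j, β i j * D j (D i (E - Rem a p)))

theorem order_mul_of_le {f g : MvPowerSeries (Fin n) A} {p q r : ℕ} (hf : (p : ℕ∞) ≤ f.order)
    (hg : (q : ℕ∞) ≤ g.order) (h : r ≤ p + q) : (r : ℕ∞) ≤ (f * g).order :=
  le_trans (le_trans (Nat.cast_le.mpr h) (by rw [Nat.cast_add]; exact add_le_add hf hg)) le_order_mul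

theorem order_Lf (a : Fin n → Fin n → A) (l : Fin n) : ((1 : ℕ) : ℕ∞) ≤ (Lf a l).order :=
  order_sum _ fun j _ => order_C_mul _ (by exact_mod_cast one_le_order_iff_constCoeff_eq_zero.mpr (by simp))

theorem order_Rem_sub (a : Fin n → Fin n → A) {g g' : Fin n → MvPowerSeries (Fin n) A}
    {c c' : MvPowerSeries (Fin n) A} {r : ℕ} (hg : ∀ i, ((2 : ℕ) : ℕ∞) ≤ (g i).order)
    (hg' : ∀ i, ((2 : ℕ) : ℕ∞) ≤ (g' i).order) (hc' : ((1 : ℕ) : ℕ∞) ≤ c'.order)
    (h : ∀ i, ((r + 1 : ℕ) : ℕ∞) ≤ (g i - g' i).order) (hc : (r : ℕ∞) ≤ (c - c').order) :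
    ((r + 3 : ℕ) : ℕ∞) ≤ (Rem a (g, c) - Rem a (g', c')).order := by
  have h1 := order_Q_sub a (p := 2) (r := r + 1) hg hg' h
  have h0 : ((4 : ℕ) : ℕ∞) ≤ (Q a g).order := by
    simpa [Q] using order_Q_sub a (g := g) (g' := 0) (p := 2) (r := 2) hg (fun _ => by simp)
      (fun i => by simpa using hg i)
  show _ ≤ (Q a g + c * (∑ l, g l * Lf a l + Q a g) - (Q a g' + c' * (∑ l, g' l * Lf a l + Q a g'))).order
  rw [show Q a g + c * (∑ l, g l * Lf a l + Q a g) - (Q a g' + c' * (∑ l, g' l * Lf a l + Q a g')) =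
    (Q a g - Q a g') + (c - c') * (∑ l, g l * Lf a l + Q a g) +
      c' * (∑ l, (g l - g' l) * Lf a l + (Q a g - Q a g')) by
    simp only [sub_mul, Finset.sum_sub_distrib]; ring]
  refine order_add (order_add (le_trans (Nat.cast_le.mpr (by omega)) h1) ?_) ?_
  · refine order_mul_of_le (q := 3) hc (order_add (order_sum _ fun l _ => ?_) ?_) le_rfl
    · exact order_mul_of_le (hg l) (order_Lf a l) le_rfl
    · exact le_trans (Nat.cast_le.mpr (by omega)) h0
  · refine order_mul_of_le (q := r + 2) hc' (order_add (order_sum _ fun l _ => ?_) ?_) (by omega)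
    · exact order_mul_of_le (h l) (order_Lf a l) (by omega)
    · exact le_trans (Nat.cast_le.mpr (by omega)) h1

variable (a : Fin n → Fin n → A) (E : MvPowerSeries (Fin n) A)
  (α : Fin n → Fin n → Fin n → MvPowerSeries (Fin n) A) (β : Fin n → Fin n → MvPowerSeries (Fin n) A)

/-- The domain of the iteration. -/
def Small (p : (Fin n → MvPowerSeries (Fin n) A) × MvPowerSeries (Fin n) A) : Prop :=
  (∀ i, ((2 : ℕ) : ℕ∞) ≤ (p.1 i).order) ∧ ((1 : ℕ) : ℕ∞) ≤ p.2.order

variable {a E α β}

theorem order_Rem {p : (Fin n → MvPowerSeries (Fin n) A) × MvPowerSeries (Fin n) A} (hp : Small p) :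
    ((3 : ℕ) : ℕ∞) ≤ (Rem a p).order := by
  obtain ⟨g, c⟩ := p
  obtain ⟨hg, hc⟩ := hp
  have h := order_Rem_sub a (g := g) (g' := 0) (c := c) (c' := 0) (r := 1) hg (fun _ => by simp) (by simp)
    (fun i => by simpa using hg i) (by simpa using hc)
  have h2 : Rem a ((0 : Fin n → MvPowerSeries (Fin n) A), 0) = 0 := by simp [Rem, Q]
  rw [h2, sub_zero] at h
  exact le_trans (Nat.cast_le.mpr (by omega)) h

theorem order_D2 {e : MvPowerSeries (Fin n) A} {m : ℕ} (he : ((m + 2 : ℕ) : ℕ∞) ≤ e.order) (i j : Fin n) :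
    (m : ℕ∞) ≤ (D j (D i e)).order :=
  order_D (order_D he i) j

theorem small_Tord (hα : ∀ i j l, ((1 : ℕ) : ℕ∞) ≤ (α i j l).order) (hE : ((3 : ℕ) : ℕ∞) ≤ E.order)
    {p : (Fin n → MvPowerSeries (Fin n) A) × MvPowerSeries (Fin n) A} (hp : Small p) :
    Small (Tord a E α β p) :=
  by
  refine ⟨fun l => ?_, ?_⟩
  · show _ ≤ (∑ i, ∑ j, α i j l * D j (D i (E - Rem a p))).order
    exact order_sum _ fun i _ => order_sum _ fun j _ =>
      order_mul_of_le (hα i j l) (order_D2 (m := 1) (order_sub hE (order_Rem hp)) i j) le_rfl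
  · show _ ≤ (∑ i, ∑ j, β i j * D j (D i (E - Rem a p))).order
    exact order_sum _ fun i _ => order_sum _ fun j _ =>
      order_mul_of_le (p := 0) (by simp) (order_D2 (m := 1) (order_sub hE (order_Rem hp)) i j) le_rfl

theorem order_Tord_sub (hα : ∀ i j l, ((1 : ℕ) : ℕ∞) ≤ (α i j l).order)
    {p p' : (Fin n → MvPowerSeries (Fin n) A) × MvPowerSeries (Fin n) A} (hp : Small p) (hp' : Small p') {r : ℕ}
    (h : (∀ i, ((r + 1 : ℕ) : ℕ∞) ≤ (p.1 i - p'.1 i).order) ∧ (r : ℕ∞) ≤ (p.2 - p'.2).order) :
    (∀ i, ((r + 2 : ℕ) : ℕ∞) ≤ ((Tord a E α β p).1 i - (Tord a E α β p').1 i).order) ∧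
      ((r + 1 : ℕ) : ℕ∞) ≤ ((Tord a E α β p).2 - (Tord a E α β p').2).order := by
  obtain ⟨g, c⟩ := p
  obtain ⟨g', c'⟩ := p'
  have hd : ((r + 3 : ℕ) : ℕ∞) ≤ ((E - Rem a (g, c)) - (E - Rem a (g', c'))).order := by
    rw [show (E - Rem a (g, c)) - (E - Rem a (g', c')) = -(Rem a (g, c) - Rem a (g', c')) by ring, order_neg]
    exact order_Rem_sub a hp.1 hp'.1 hp'.2 h.1 h.2
  refine ⟨fun l => ?_, ?_⟩
  · simp only [Tord, ← Finset.sum_sub_distrib, ← mul_sub, ← map_sub]
    exact order_sum _ fun i _ => order_sum _ fun j _ =>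
      order_mul_of_le (hα i j l) (order_D2 (m := r + 1) hd i j) (by omega)
  · simp only [Tord, ← Finset.sum_sub_distrib, ← mul_sub, ← map_sub]
    exact order_sum _ fun i _ => order_sum _ fun j _ =>
      order_mul_of_le (p := 0) (by simp) (order_D2 (m := r + 1) hd i j) (by omega)

/-- A sequence whose steps shrink has a limit. -/
theorem exists_limit (s : ℕ → MvPowerSeries (Fin n) A) (h : ∀ t : ℕ, (t : ℕ∞) ≤ (s (t + 1) - s t).order) :
    ∃ g, ∀ t : ℕ, (t : ℕ∞) ≤ (g - s t).order := by
  have hst : ∀ (d t : ℕ), (t : ℕ∞) ≤ (s (t + d) - s t).order := by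
    intro d
    induction d with
    | zero => intro t; simp
    | succ d ih =>
      intro t
      rw [show s (t + (d + 1)) - s t = (s (t + d + 1) - s (t + d)) + (s (t + d) - s t) by
        rw [← Nat.add_assoc]; abel]
      exact order_add (le_trans (by simp) (h (t + d))) (ih t)
  refine ⟨fun d => coeff d (s (d.degree + 1)), fun t => nat_le_order fun d hd => ?_⟩
  obtain ⟨c, rfl⟩ := Nat.exists_eq_add_of_le (Nat.succ_le_of_lt hd)
  have := coeff_of_lt_order (f := s (d.degree + 1 + c) - s (d.degree + 1)) (d := d)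
    (lt_of_lt_of_le (Nat.cast_lt.mpr (Nat.lt_succ_self d.degree)) (hst c (d.degree + 1)))
  rw [map_sub] at this
  erw [map_sub]
  show coeff d (s (d.degree + 1)) - _ = 0
  rw [← neg_sub, neg_eq_zero]
  exact this

theorem exists_fixed (hα : ∀ i j l, ((1 : ℕ) : ℕ∞) ≤ (α i j l).order) (hE : ((3 : ℕ) : ℕ∞) ≤ E.order) :
    ∃ p, Small p ∧ Tord a E α β p = p := by
  let s : ℕ → (Fin n → MvPowerSeries (Fin n) A) × MvPowerSeries (Fin n) A := fun t => (Tord a E α β)^[t] (fun _ => 0, 0)
  have hs1 : ∀ t, s (t + 1) = Tord a E α β (s t) := fun t => Function.iterate_succ_apply' _ _ _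
  have hs : ∀ t, Small (s t) := by
    intro t
    induction t with
    | zero => exact ⟨fun i => by simp [s], by simp [s]⟩
    | succ t ih => rw [hs1]; exact small_Tord hα hE ih
  have hdiff : ∀ t : ℕ, (∀ i, ((t + 1 : ℕ) : ℕ∞) ≤ ((s (t + 1)).1 i - (s t).1 i).order) ∧
      (t : ℕ∞) ≤ ((s (t + 1)).2 - (s t).2).order := by
    intro t
    induction t with
    | zero => exact ⟨fun i => le_trans (by simp) (order_sub ((hs 1).1 i) ((hs 0).1 i)), by simp⟩
    | succ t ih =>
      rw [hs1 (t + 1)]
      nth_rw 2 [hs1 t]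
      nth_rw 3 [hs1 t]
      exact order_Tord_sub hα (hs _) (hs _) ih
  choose g hg using fun i => exists_limit (fun t => (s t).1 i)
    fun t => le_trans (Nat.cast_le.mpr (Nat.le_succ t)) ((hdiff t).1 i)
  obtain ⟨c, hc⟩ := exists_limit (fun t => (s t).2) fun t => (hdiff t).2
  have hsm : Small (g, c) := by
    refine ⟨fun i => ?_, ?_⟩
    · have := order_add (hg i 2) ((hs 2).1 i)
      rwa [sub_add_cancel] at this
    · have := order_add (hc 1) (hs 1).2
      rwa [sub_add_cancel] at this
  refine ⟨(g, c), hsm, ?_⟩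
  have key : ∀ t : ℕ, (∀ i, ((t + 2 : ℕ) : ℕ∞) ≤ ((Tord a E α β (g, c)).1 i - (s (t + 2)).1 i).order) ∧
      ((t + 1 : ℕ) : ℕ∞) ≤ ((Tord a E α β (g, c)).2 - (s (t + 2)).2).order := fun t => by
    rw [hs1 (t + 1)]
    exact order_Tord_sub hα hsm (hs _) ⟨fun i => hg i (t + 1),
      le_trans (Nat.cast_le.mpr (Nat.le_succ t)) (hc (t + 1))⟩
  refine Prod.ext (funext fun i => ?_) ?_
  · refine sub_eq_zero.mp (Groth.L01.FormalInverse.eq_zero_of_order fun t => ?_)
    rw [← sub_sub_sub_cancel_right _ (g i) ((s (t + 2)).1 i)]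
    exact order_sub (le_trans (Nat.cast_le.mpr (by omega)) ((key t).1 i))
      (le_trans (Nat.cast_le.mpr (by omega)) (hg i (t + 2)))
  · refine sub_eq_zero.mp (Groth.L01.FormalInverse.eq_zero_of_order fun t => ?_)
    rw [← sub_sub_sub_cancel_right _ c ((s (t + 2)).2)]
    exact order_sub (le_trans (Nat.cast_le.mpr (by omega)) (key t).2)
      (le_trans (Nat.cast_le.mpr (by omega)) (hc (t + 2)))

/-- Straightening a perturbation of a quadratic form whose polar forms and itself span the quadrics. -/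
theorem exists_equiv_of_decomp (hα : ∀ i j l, ((1 : ℕ) : ℕ∞) ≤ (α i j l).order) (hE : ((3 : ℕ) : ℕ∞) ≤ E.order)
    (hdec : ∀ i j, X i * X j = ∑ l, α i j l * Lf a l + β i j * Q a X) :
    ∃ φ : MvPowerSeries (Fin n) A ≃ₐ[A] MvPowerSeries (Fin n) A,
      Ideal.span {φ (Q a X)} = Ideal.span {Q a X + E} := by
  obtain ⟨⟨g, c⟩, ⟨hg, hc⟩, hfix⟩ := exists_fixed (a := a) (β := β) hα hE
  set e := E - Rem a (g, c) with he
  have hge : ∀ l, g l = ∑ i, ∑ j, α i j l * D j (D i e) := fun l =>
    (congrFun (congrArg Prod.fst hfix) l).symm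
  have hce : c = ∑ i, ∑ j, β i j * D j (D i e) := (congrArg Prod.snd hfix).symm
  have he3 : ((3 : ℕ) : ℕ∞) ≤ e.order := order_sub hE (order_Rem (p := (g, c)) ⟨hg, hc⟩)
  have hsum : ∑ l, g l * Lf a l + c * Q a X = e := by
    calc ∑ l, g l * Lf a l + c * Q a X
        = ∑ i, ∑ j, (∑ l, α i j l * Lf a l + β i j * Q a X) * D j (D i e) := by
          have h1 : ∑ l, g l * Lf a l = ∑ i, ∑ j, (∑ l, α i j l * Lf a l) * D j (D i e) := by
            rw [Finset.sum_congr rfl fun l _ => congrArg (· * Lf a l) (hge l)]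
            simp only [Finset.sum_mul]
            rw [Finset.sum_comm]
            refine Finset.sum_congr rfl fun i _ => ?_
            rw [Finset.sum_comm]
            exact Finset.sum_congr rfl fun j _ => Finset.sum_congr rfl fun l _ => mul_right_comm _ _ _
          have h2 : c * Q a X = ∑ i, ∑ j, (β i j * Q a X) * D j (D i e) := by
            refine (congrArg (· * Q a X) hce).trans ?_
            simp only [Finset.sum_mul]
            exact Finset.sum_congr rfl fun i _ => Finset.sum_congr rfl fun j _ => mul_right_comm _ _ _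
          rw [h1, h2, ← Finset.sum_add_distrib]
          refine Finset.sum_congr rfl fun i _ => ?_
          rw [← Finset.sum_add_distrib]
          exact Finset.sum_congr rfl fun j _ => (add_mul _ _ _).symm
      _ = ∑ i, X i * ∑ j, X j * D j (D i e) := by
          refine Finset.sum_congr rfl fun i _ => ?_
          rw [Finset.mul_sum]
          exact Finset.sum_congr rfl fun j _ => by rw [← hdec, mul_assoc]
      _ = ∑ i, X i * D i e := Finset.sum_congr rfl fun i _ => by
          rw [sum_X_mul_D (le_trans (by norm_num) (order_D (m := 2) he3 i))]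
      _ = e := sum_X_mul_D (le_trans (by norm_num) he3)
  have hu : IsUnit (1 + c) := by
    rw [isUnit_iff_constantCoeff, map_add, map_one,
      one_le_order_iff_constCoeff_eq_zero.mp (by exact_mod_cast hc), add_zero]
    exact isUnit_one
  obtain ⟨φ, h, -, -, hφ, -⟩ := exists_inverse (g := g) (m := 2) le_rfl hg
  refine ⟨φ, ?_⟩
  have hφQ : φ (Q a X) = Q a (fun i => X i + g i) := by
    rw [hφ, ← coe_quadPoly, subst_quadPoly a
      (hasSubst_of_constantCoeff_zero (constantCoeff_perturb (by omega) hg))]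
  have hkey : Q a X + E = Q a (fun i => X i + g i) * (1 + c) := by
    rw [he] at hsum
    simp only [Lf] at hsum
    rw [Q_add]
    simp only [Rem, Lf] at hsum
    linear_combination -hsum
  rw [hφQ, hkey, Ideal.span_singleton_mul_right_unit hu]

/-- Ordinary quadrics over an algebraically closed field span all quadrics with their polar forms. -/
theorem exists_decomp {k : Type u} [Field k] [IsAlgClosed k] (a : Fin n → Fin n → k) (ha : VanCyc.QuadOrd a) :
    ∃ (α : Fin n → Fin n → Fin n → MvPowerSeries (Fin n) k) (β : Fin n → Fin n → MvPowerSeries (Fin n) k),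
      (∀ i j l, ((1 : ℕ) : ℕ∞) ≤ (α i j l).order) ∧
      ∀ i j, X i * X j = ∑ l, α i j l * Lf a l + β i j * Q a X := by
  set P := VanCyc.polarMatrix a with hP
  have hX : ∀ i : Fin n, ((1 : ℕ) : ℕ∞) ≤ (X i : MvPowerSeries (Fin n) k).order := fun i => by
    exact_mod_cast one_le_order_iff_constCoeff_eq_zero.mpr (by simp)
  have hlin : ∀ γ : Fin n → k, ∑ l, C (γ l) * Lf a l = ∑ j, C ((Matrix.vecMul γ P) j) * X j := fun γ => by
    simp only [Lf, Finset.mul_sum, Matrix.vecMul, dotProduct, map_sum, Finset.sum_mul, map_mul, hP]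
    rw [Finset.sum_comm]
    exact Finset.sum_congr rfl fun j _ => Finset.sum_congr rfl fun l _ => by ring
  have hpi : ∀ i : Fin n, ∑ j, C ((Pi.single i (1 : k) : Fin n → k) j) * X j = (X i : MvPowerSeries (Fin n) k) :=
    fun i => by
      rw [Finset.sum_eq_single i (fun b _ hb => by rw [Pi.single_eq_of_ne hb, map_zero, zero_mul])
        (fun h => absurd (Finset.mem_univ i) h), Pi.single_eq_same, map_one, one_mul]
  rcases eq_or_ne P.det 0 with hdet | hdet
  · obtain ⟨v, hv0, hv⟩ := Matrix.exists_mulVec_eq_zero_iff.mpr hdet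
    have hq : VanCyc.quadEval a v ≠ 0 := fun h => hv0 (ha v h hv)
    have hsym : P.transpose = P := by
      ext i j
      simp only [Matrix.transpose_apply, hP, VanCyc.polarMatrix]
      rcases lt_trichotomy i j with h | rfl | h
      · simp [h.ne, h.ne', h, not_lt.mpr h.le]
      · simp
      · simp [h.ne, h.ne', h, not_lt.mpr h.le]
    obtain ⟨i₀, hi₀⟩ : ∃ i, v i ≠ 0 := by
      by_contra h
      exact hv0 (funext fun i => not_not.mp fun h' => h ⟨i, h'⟩)
    have hker : LinearMap.ker P.mulVecLin ≤ Submodule.span k {v} := by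
      intro w hw
      have hw' : P.mulVec w = 0 := hw
      obtain ⟨s, hs⟩ := IsAlgClosed.exists_pow_nat_eq (VanCyc.quadEval a w) two_pos
      obtain ⟨t, ht⟩ := IsAlgClosed.exists_pow_nat_eq (-VanCyc.quadEval a v) two_pos
      have hz : VanCyc.quadEval a (s • v + t • w) = 0 := by
        have e : VanCyc.quadEval a (s • v + t • w) = s ^ 2 * VanCyc.quadEval a v + t ^ 2 * VanCyc.quadEval a w +
            s * t * dotProduct w (P.mulVec v) := by
          simp only [VanCyc.quadEval, dotProduct, Matrix.mulVec, Finset.mul_sum, hP, VanCyc.polarMatrix,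
            Pi.add_apply, Pi.smul_apply, smul_eq_mul]
          have hswap : ∀ F : Fin n → Fin n → k, ∑ i, ∑ j, F i j =
              ∑ i, ∑ j, (if i ≤ j then (if i = j then F i i else F i j + F j i) else 0) := fun F => by
            have h1 : ∀ i j : Fin n, F i j = (if i ≤ j then F i j else 0) + (if j < i then F i j else 0) := by
              intro i j
              rcases lt_or_ge j i with h | h
              · simp [h, not_le.mpr h]
              · simp [h, not_lt.mpr h]
            conv_lhs => enter [2, i, 2, j]; rw [h1 i j]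
            simp only [Finset.sum_add_distrib]
            rw [Finset.sum_comm (f := fun i j => if j < i then F i j else 0), ← Finset.sum_add_distrib]
            refine Finset.sum_congr rfl fun i _ => ?_
            rw [← Finset.sum_add_distrib]
            refine Finset.sum_congr rfl fun j _ => ?_
            rcases lt_trichotomy i j with h | rfl | h
            · simp [h, h.le, h.ne]
            · simp
            · simp [not_le.mpr h, not_lt.mpr h.le]
          rw [hswap (fun i j => s * t * (w i * ((if i = j then 2 * a i i else if i < j then a i j else a j i) * v j))),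
            ← Finset.sum_add_distrib, ← Finset.sum_add_distrib]
          refine Finset.sum_congr rfl fun i _ => ?_
          rw [← Finset.sum_add_distrib, ← Finset.sum_add_distrib]
          refine Finset.sum_congr rfl fun j _ => ?_
          rcases lt_trichotomy i j with h | rfl | h
          · simp only [h.le, h.ne, h.ne', h, not_lt.mpr h.le, if_true, if_false]; ring
          · simp only [le_refl, if_true]; ring
          · simp [not_le.mpr h]
        rw [e, hv, dotProduct_zero, hs, ht]
        ring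
      have h0 : s • v + t • w = 0 := ha _ hz (by
        rw [← hP, Matrix.mulVec_add, Matrix.mulVec_smul, Matrix.mulVec_smul, hv, hw']; simp)
      have ht0 : t ≠ 0 := fun h => hq (by rw [← neg_eq_zero, ← ht, h]; simp)
      refine Submodule.mem_span_singleton.mpr ⟨-(t⁻¹ * s), ?_⟩
      have h1 := congrArg (fun z => t⁻¹ • z) h0
      rw [smul_add, smul_smul, smul_smul, inv_mul_cancel₀ ht0, one_smul, smul_zero] at h1
      rw [neg_smul, neg_eq_iff_add_eq_zero]
      exact h1
    let ψ : (Fin n → k) →ₗ[k] k :=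
      { toFun := fun x => dotProduct x v, map_add' := fun x y => add_dotProduct _ _ _, map_smul' := fun r x => by simp }
    have hrange : LinearMap.ker ψ ≤ LinearMap.range P.mulVecLin := by
      have hle : LinearMap.range P.mulVecLin ≤ LinearMap.ker ψ := by
        rintro _ ⟨x, rfl⟩
        show dotProduct (P.mulVec x) v = 0
        rw [dotProduct_comm, Matrix.dotProduct_mulVec, ← hsym, Matrix.vecMul_transpose, hv, zero_dotProduct]
      refine (Submodule.eq_of_le_of_finrank_le hle ?_).ge
      have h1 := P.mulVecLin.finrank_range_add_finrank_ker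
      have h2 := ψ.finrank_range_add_finrank_ker
      have h3 := Submodule.finrank_mono hker
      rw [finrank_span_singleton hv0] at h3
      have h4 : Module.finrank k (LinearMap.range ψ) = 1 := by
        have hne : LinearMap.range ψ ≠ ⊥ := fun h => hi₀ (by
          have : ψ (Pi.single i₀ 1) ∈ LinearMap.range ψ := ⟨_, rfl⟩
          rw [h, Submodule.mem_bot] at this
          simpa [ψ] using this)
        rw [(eq_bot_or_eq_top (LinearMap.range ψ)).resolve_left hne, finrank_top, Module.finrank_self]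
      omega
    let r : Fin n → k := fun i => v i / v i₀
    have hγ : ∀ i, ∃ γ : Fin n → k, (X i : MvPowerSeries (Fin n) k) = C (r i) * X i₀ + ∑ l, C (γ l) * Lf a l := by
      intro i
      have hmem : Pi.single i (1 : k) - r i • Pi.single i₀ 1 ∈ LinearMap.ker ψ := by
        show dotProduct (Pi.single i (1 : k) - r i • Pi.single i₀ 1) v = 0
        simp [sub_dotProduct, r, div_mul_cancel₀ _ hi₀]
      obtain ⟨γ, hγ⟩ := hrange hmem
      refine ⟨γ, ?_⟩
      rw [hlin, ← hsym, Matrix.vecMul_transpose, show P.mulVec γ = _ from hγ]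
      have hj : ∀ j, C ((Pi.single i (1 : k) - r i • Pi.single i₀ 1 : Fin n → k) j) * X j =
          C ((Pi.single i (1 : k) : Fin n → k) j) * X j - C (r i) * (C ((Pi.single i₀ (1 : k) : Fin n → k) j) * X j) :=
        fun j => by simp only [Pi.sub_apply, Pi.smul_apply, smul_eq_mul, map_sub, map_mul]; ring
      simp only [hj, Finset.sum_sub_distrib, ← Finset.mul_sum, hpi]
      ring
    choose γ hγ using hγ
    let δ : Fin n → Fin n → Fin n → MvPowerSeries (Fin n) k := fun i j l =>
      C (γ i l) * X j + C (r i) * X i₀ * C (γ j l)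
    have hδord : ∀ i j l, ((1 : ℕ) : ℕ∞) ≤ (δ i j l).order := fun i j l =>
      order_add (order_C_mul _ (hX j)) (le_trans (order_C_mul _ (hX i₀)) (le_trans le_self_add le_order_mul))
    have hδ : ∀ i j, X i * X j = C (r i * r j) * (X i₀ * X i₀) + ∑ l, δ i j l * Lf a l := fun i j => by
      calc (X i * X j : MvPowerSeries (Fin n) k)
          = (∑ l, C (γ i l) * Lf a l) * X j + C (r i) * X i₀ * (C (r j) * X i₀ + ∑ l, C (γ j l) * Lf a l) := by
            rw [← hγ j]; nth_rw 1 [hγ i]; ring
        _ = C (r i * r j) * (X i₀ * X i₀) + ∑ l, δ i j l * Lf a l := by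
            simp only [δ, add_mul, Finset.sum_add_distrib, Finset.sum_mul, mul_add, Finset.mul_sum, map_mul]
            rw [Finset.sum_congr rfl fun l _ => mul_right_comm (C (γ i l)) (Lf a l) (X j)]
            rw [Finset.sum_congr rfl fun l (_ : l ∈ univ) => show C (γ i l) * X j * Lf a l =
              X j * C (γ i l) * Lf a l by ring]
            ring
    let q := ∑ i, ∑ j, if i ≤ j then a i j * (r i * r j) else 0
    let ε : Fin n → MvPowerSeries (Fin n) k := fun l => ∑ i, ∑ j, if i ≤ j then C (a i j) * δ i j l else 0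
    have hεord : ∀ l, ((1 : ℕ) : ℕ∞) ≤ (ε l).order := fun l => order_sum _ fun i _ => order_sum _ fun j _ => by
      split_ifs
      · exact order_C_mul _ (hδord i j l)
      · simp
    have hQ : Q a X = C q * (X i₀ * X i₀) + ∑ l, ε l * Lf a l := by
      have h3 : ∑ l, ε l * Lf a l = ∑ i, ∑ j, if i ≤ j then C (a i j) * ∑ l, δ i j l * Lf a l else 0 := by
        simp only [ε, Finset.sum_mul]
        rw [Finset.sum_comm]
        refine Finset.sum_congr rfl fun i _ => ?_
        rw [Finset.sum_comm]
        refine Finset.sum_congr rfl fun j _ => ?_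
        split_ifs
        · rw [Finset.mul_sum]; exact Finset.sum_congr rfl fun l _ => mul_assoc _ _ _
        · simp
      rw [h3, Q]
      simp only [q, map_sum, Finset.sum_mul, ← Finset.sum_add_distrib]
      refine Finset.sum_congr rfl fun i _ => Finset.sum_congr rfl fun j _ => ?_
      split_ifs
      · rw [mul_assoc, hδ i j, map_mul, map_mul, map_mul]; ring
      · simp
    have hq' : q ≠ 0 := by
      intro h
      refine hq ?_
      have : VanCyc.quadEval a v = v i₀ * v i₀ * q := by
        simp only [VanCyc.quadEval, q, Finset.mul_sum, r]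
        refine Finset.sum_congr rfl fun i _ => Finset.sum_congr rfl fun j _ => ?_
        split_ifs
        · field_simp
        · simp
      rw [this, h, mul_zero]
    refine ⟨fun i j l => δ i j l - C (r i * r j * q⁻¹) * ε l, fun i j => C (r i * r j * q⁻¹),
      fun i j l => order_sub (hδord i j l) (order_C_mul _ (hεord l)), fun i j => ?_⟩
    rw [hδ, hQ]
    simp only [sub_mul, Finset.sum_sub_distrib, mul_assoc, ← Finset.mul_sum]
    rw [mul_add, ← mul_assoc (C _) (C q), ← map_mul, mul_assoc (r i), mul_assoc (r j), inv_mul_cancel₀ hq', mul_one]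
    ring
  · refine ⟨fun i j l => X i * C (P⁻¹ j l), fun _ _ => 0, fun i j l => le_trans (hX i) (le_trans le_self_add le_order_mul),
      fun i j => ?_⟩
    have hj : Matrix.vecMul (P⁻¹ j) P = Pi.single j 1 := by
      funext l
      rw [show Matrix.vecMul (P⁻¹ j) P l = (P⁻¹ * P) j l from rfl, Matrix.nonsing_inv_mul _ (isUnit_iff_ne_zero.mpr hdet),
        Matrix.one_apply, Pi.single_apply]
      exact if_congr eq_comm rfl rfl
    simp only [zero_mul, add_zero, mul_assoc, ← Finset.mul_sum, hlin, hj, hpi]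

/-- An ordinary quadratic series over an algebraically closed field is its quadratic part in new coordinates. -/
theorem exists_equiv_quadPart {k : Type u} [Field k] [IsAlgClosed k] (f : MvPowerSeries (Fin n) k)
    (hf : VanCyc.OrdQuadSeries f) :
    Nonempty ((MvPowerSeries (Fin n) k ⧸ Ideal.span {f}) ≃ₐ[k]
      (MvPowerSeries (Fin n) k ⧸ Ideal.span {Q (VanCyc.quadPart f) X})) := by
  obtain ⟨α, β, hα, hdec⟩ := exists_decomp _ hf.2
  obtain ⟨φ, hφ⟩ := exists_equiv_of_decomp (E := f - Q (VanCyc.quadPart f) X) hα (order_sub_quadPart hf.1) hdec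
  rw [add_sub_cancel] at hφ
  refine ⟨(Ideal.quotientEquivAlg _ _ φ ?_).symm⟩
  rw [Ideal.map_span, Set.image_singleton]
  exact hφ.symm

end Groth.L14.Quad
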